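import Groth.Prelude.Def_FlatFun
import Groth.Prelude.Def_AlgSpRep
import Groth.Agent.LimTop.ModDescend
import Groth.Agent.LimTop.BaseChange

/-!
# Limit preservation of functors `T ↦ [condition on X ×_S T ⟶ X]`
-/

set_option autoImplicit false
set_option backward.isDefEq.respectTransparency false
set_option backward.isDefEq.respectTransparency.types false
set_option linter.style.haveILetI false

universe u

open CategoryTheory Limits AlgebraicGeometry Opposite

namespace Groth.Agent.LimPresFun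

variable {X S : Scheme.{u}} (f : X ⟶ S) [QuasiCompact f]

/-- A base change stable condition on schemes over `X` that descends along limits with affine
transition maps gives a limit preserving functor. -/
theorem isLimitPreserving_genPSp (Φ : ∀ ⦃Y : Scheme.{u}⦄, (Y ⟶ X) → Prop)
    (hΦ : ∀ ⦃Z Y : Scheme.{u}⦄ (p : Z ⟶ Y) (g : Y ⟶ X), Φ g → Φ (p ≫ g))
    (hlim : ∀ ⦃J : Type u⦄ [SmallCategory J] [IsCofiltered J] (D : J ⥤ Scheme.{u}) (c : Cone D)
      (_ : IsLimit c) [∀ (i j : J) (φ : i ⟶ j), IsAffineHom (D.map φ)] (i₀ : J)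
      [CompactSpace (D.obj i₀)] (q : D.obj i₀ ⟶ X), Φ (c.π.app i₀ ≫ q) →
        ∃ (j : J) (φ : j ⟶ i₀), Φ (D.map φ ≫ q)) :
    AlgSp.IsLimitPreserving (FlatFun.genPSp S (fun T => Φ (pullback.fst f T.hom))) := by
  intro I _ _ D c hc hD hT
  refine ⟨Types.FilteredColimit.isColimitOf _ _ (fun x => ?_) fun i j xi xj _ => ?_⟩
  · obtain ⟨T₀, (k : c.pt ⟶ T₀), hk⟩ := x.down.down
    let D₀ := D ⋙ Over.forget S
    let c₀ : Cone D₀ := (Over.forget S).mapCone c
    haveI : ∀ i, IsAffine (D₀.obj i) := hD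
    haveI : ∀ (i j : I) (φ : i ⟶ j), IsAffineHom (D₀.map φ) := fun _ _ _ => isAffineHom_of_isAffine _
    obtain ⟨i₀⟩ := IsCofiltered.nonempty (C := I)
    let Xi := pullback f (D.obj i₀).hom
    let h : Xi ⟶ D₀.obj i₀ := pullback.snd f (D.obj i₀).hom
    haveI : CompactSpace Xi := QuasiCompact.compactSpace_of_compactSpace h
    let E := LimTop.bcDiagram D₀ i₀ h
    let j₀ : Over i₀ := Over.mk (𝟙 i₀)
    let q : E.obj j₀ ⟶ X := pullback.snd _ h ≫ pullback.fst f (D.obj i₀).hom
    haveI : CompactSpace (E.obj j₀) :=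
      haveI : IsIso (D₀.map j₀.hom) := inferInstanceAs (IsIso (D₀.map (𝟙 i₀)))
      haveI : IsAffineHom (D₀.map j₀.hom) := inferInstance
      QuasiCompact.compactSpace_of_compactSpace
        (pullback.snd (D₀.map j₀.hom) h : E.obj j₀ ⟶ Xi)
    have hpt : Φ ((LimTop.bcCone c₀ i₀ h).π.app j₀ ≫ q) := by
      let m : (LimTop.bcCone c₀ i₀ h).pt ⟶ pullback f T₀.hom :=
        pullback.lift (pullback.snd (c₀.π.app i₀) h ≫ pullback.fst f (D.obj i₀).hom)
          (pullback.fst (c₀.π.app i₀) h ≫ k.left) (by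
            rw [Category.assoc, Category.assoc, pullback.condition, Over.w k]
            change pullback.snd (c.π.app i₀).left h ≫ h ≫ (D.obj i₀).hom =
              pullback.fst (c.π.app i₀).left h ≫ c.pt.hom
            rw [← pullback.condition_assoc, Over.w (c.π.app i₀)]; rfl)
      have e : (LimTop.bcCone c₀ i₀ h).π.app j₀ ≫ q = m ≫ pullback.fst f T₀.hom := by
        rw [pullback.lift_fst]
        exact (Category.assoc _ _ _).symm.trans
          (congrArg (· ≫ pullback.fst f (D.obj i₀).hom) (LimTop.bcCone_snd c₀ i₀ h j₀))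
      rw [e]
      exact hΦ m _ hk
    obtain ⟨j, φ, hj⟩ := hlim E _ (LimTop.isLimitBcCone hc i₀ h) j₀ q hpt
    let m : pullback f (D.obj j.left).hom ⟶ E.obj j :=
      pullback.lift (pullback.snd f (D.obj j.left).hom)
        (pullback.lift (pullback.fst f (D.obj j.left).hom)
          (pullback.snd f (D.obj j.left).hom ≫ (D.map j.hom).left) (by
            rw [pullback.condition, Category.assoc, Over.w (D.map j.hom)]))
        (by simp [h, D₀]; rfl)
    have e : m ≫ E.map φ ≫ q = pullback.fst f (D.obj j.left).hom := by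
      have e1 : E.map φ ≫ pullback.snd (D₀.map j₀.hom) h = pullback.snd (D₀.map j.hom) h :=
        pullback.lift_snd _ _ _
      refine (congrArg (m ≫ ·) (((Category.assoc _ _ _).symm.trans
        (congrArg (· ≫ pullback.fst f (D.obj i₀).hom) e1)))).trans ?_
      refine (Category.assoc _ _ _).symm.trans ?_
      exact (congrArg (· ≫ pullback.fst f (D.obj i₀).hom) (pullback.lift_snd _ _ _)).trans
        (pullback.lift_fst _ _ _)
    refine ⟨op j.left, ⟨⟨D.obj j.left, 𝟙 _, ?_⟩⟩, @Subsingleton.elim _ (FlatFun.genPSp_subsingleton _ _ _) _ _⟩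
    show Φ (pullback.fst f (D.obj j.left).hom)
    exact e ▸ hΦ m _ hj
  · obtain ⟨k, a, b, -⟩ := IsFilteredOrEmpty.cocone_objs i j
    exact ⟨k, a, b, @Subsingleton.elim _ (FlatFun.genPSp_subsingleton _ _ _) _ _⟩

open Scheme.Modules in
/-- The pullback of a quasi-coherent finite type module is of finite type on the whole space. -/
theorem finOn_pullback {Y : Scheme.{u}} (q : Y ⟶ X) {M : X.Modules} [M.IsQuasicoherent]
    (hM : LimTop.FinOn M ⊤) : LimTop.FinOn ((Scheme.Modules.pullback q).obj M) ⊤ :=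
  hM.pullback q le_top

end Groth.Agent.LimPresFun
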